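/-
The seven-dimensional module of G2(3): data. A matrix is the list of its rows, a row is the number with the
entries as digits in base 3.
-/
import Cfsg.Prelude.Def_ChevG2

set_option autoImplicit false
set_option maxRecDepth 20000

namespace CfsgLib.G23

/-- The seven coordinates of the invariant submodule, numbered among the fourteen. -/
def pos : List ℕ := [0, 4, 5, 6, 9, 10, 11]

/-- The adjoint action of the seven basis vectors on the submodule. -/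
def badData : List (List ℕ) := [[0, 6, 9, 27, 162, 486, 729], [729, 1, 81, 486, 0, 0, 0], [486, 27, 2, 0, 1458, 0, 0], [162, 18, 0, 2, 0, 729, 0], [27, 0, 6, 0, 1, 0, 243], [9, 0, 0, 3, 0, 1, 162], [6, 0, 0, 0, 9, 54, 2]]

/-- The root elements on the submodule, parameters 1 and 2. -/
def rootData : List (List (List ℕ)) := [[[1, 246, 1467, 27, 81, 243, 729], [1, 489, 738, 27, 81, 243, 729]], [[1, 84, 9, 1485, 81, 243, 729], [1, 165, 9, 756, 81, 243, 729]], [[730, 1462, 90, 513, 81, 243, 729], [1459, 1463, 171, 270, 81, 243, 729]], [[487, 30, 497, 27, 1539, 243, 729], [244, 57, 496, 27, 810, 243, 729]], [[163, 21, 9, 191, 81, 972, 729], [82, 12, 9, 190, 81, 1701, 729]], [[1, 3, 63, 27, 324, 243, 729], [1, 3, 36, 27, 567, 243, 729]], [[1, 3, 9, 45, 81, 324, 729], [1, 3, 9, 36, 81, 405, 729]], [[28, 3, 15, 27, 136, 243, 972], [55, 3, 12, 27, 137, 243, 1215]], [[10, 3, 9, 30, 81,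 262, 891], [19, 3, 9, 33, 81, 263, 810]], [[7, 3, 9, 27, 90, 297, 737], [4, 3, 9, 27, 99, 270, 736]], [[1, 3, 9, 27, 84, 243, 783], [1, 3, 9, 27, 87, 243, 756]], [[1, 3, 9, 27, 81, 246, 747], [1, 3, 9, 27, 81, 249, 738]]]

/-- Data determining the centralizer of an element. -/
structure Cert where
  /-- The order. -/
  n : ℕ
  /-- The element as a word. -/
  word : List (ℕ × ℕ)
  /-- Its powers. -/
  pw : List (List ℕ)
  /-- A cyclic vector. -/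
  v0 : ℕ
  /-- The inverse of the matrix of `g ^ k v0`. -/
  ci : List ℕ
  /-- The polynomials in `g` sending `v0` to the basis vectors. -/
  p : List (List ℕ)
  /-- The orbit of the cyclic vector. -/
  orbit : List ℕ
  /-- Equations: indices, quadratic terms, linear terms. -/
  terms : List ((ℕ × ℕ × ℕ) × List (ℕ × ℕ × ℕ) × List (ℕ × ℕ))

/-- The certificate for the element of order 7. -/
def cert7 : Cert where
  n := 7
  word := [(6, 1), (7, 1), (5, 2), (4, 2)]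
  pw := [[1, 3, 9, 27, 81, 243, 729], [29, 12, 196, 3, 1269, 54, 243], [58, 199, 1775, 12, 276, 6, 54], [38, 1863, 567, 199, 72, 24, 6], [164, 1458, 1215, 1863, 137, 155, 24], [1702, 486, 270, 1458, 1249, 1296, 155], [488, 27, 57, 486, 317, 729, 1296], [1, 3, 9, 27, 81, 243, 729]]
  v0 := 729
  ci := [1217, 82, 73, 35, 55, 2, 244]
  p := [[1209, 73, 117, 35, 513, 29, 1], [73, 1296, 405, 155, 36, 12, 3], [35, 155, 1252, 24, 543, 3, 27], [152, 317, 604, 1249, 724, 190, 36], [29, 12, 196, 3, 1269, 54, 243], [487, 33, 75, 540, 479, 1215, 567], [1, 3, 9, 27, 81, 243, 729]]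
  orbit := [729, 81, 18, 6, 69, 380, 972]
  terms := [((1, 4, 5), [(0, 0, 1), (0, 2, 1), (0, 3, 1), (0, 4, 1), (0, 5, 2), (1, 1, 1), (1, 2, 2), (1, 3, 2), (2, 2, 2), (2, 3, 2), (2, 4, 2), (3, 2, 2), (3, 3, 2), (3, 4, 2), (4, 4, 1), (4, 5, 2), (5, 4, 2), (5, 5, 1)], [(0, 2), (1, 2), (2, 1), (3, 1), (4, 1), (5, 1)]), ((0, 6, 1), [(0, 0, 2), (0, 2, 2), (0, 3, 2), (1, 1, 1), (2, 1, 2), (3, 3, 2), (4, 1, 2), (5, 2, 2), (6, 1, 1)], [(1, 2)]), ((2, 2, 5), [(0, 1, 2), (0, 2, 2), (0, 3, 2), (0, 4, 1), (1, 2, 1), (2, 2, 1), (2, 3, 1), (2, 4, 1), (3, 3, 1), (3, 4, 1), (4, 0, 2), (4, 2, 2), (4, 3, 2), (4, 4, 2), (4, 5, 1), (5, 0, 1), (5, 1, 2), (5, 3, 1), (5, 5, 2), (6, 0, 2), (6, 5, 1)], [(2, 2), (3, 2), (4, 2)]), ((3, 6, 6), [(0, 4, 2), (0, 5, 1), (0, 6, 2), (1, 5, 1), (1, 6, 2), (2, 0, 2), (2, 5, 2), (2, 6, 1), (3, 0, 2), (3, 4, 2), (3, 5, 2), (3, 6, 2), (4, 4, 1), (4, 5, 2), (4, 6, 1),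 (5, 5, 2)], [(4, 1), (5, 2)]), ((0, 6, 2), [(0, 0, 1), (0, 1, 2), (0, 3, 1), (0, 5, 2), (1, 3, 1), (2, 3, 2), (3, 5, 1), (4, 3, 2), (5, 1, 2), (5, 3, 1), (6, 3, 1)], [(3, 1)]), ((0, 6, 6), [(0, 0, 2), (0, 4, 1), (1, 6, 1), (2, 6, 2), (3, 4, 2), (3, 5, 1), (3, 6, 2), (4, 6, 2), (5, 5, 2), (5, 6, 1), (6, 6, 1)], [(6, 1)])]

/-- The certificate for the element of order 13. -/
def cert13 : Cert where
  n := 13
  word := [(6, 1), (7, 1), (5, 1), (4, 2)]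
  pw := [[1, 3, 9, 27, 81, 243, 729], [29, 12, 143, 140, 1755, 1269, 243], [111, 146, 1940, 1928, 1141, 2167, 1269], [1826, 1732, 1578, 1516, 1997, 696, 2167], [701, 1123, 1633, 711, 1480, 63, 696], [49, 317, 1090, 57, 717, 3, 63], [38, 1296, 405, 199, 72, 12, 3], [164, 729, 1701, 1377, 137, 146, 12], [1216, 243, 1026, 297, 1925, 1732, 146], [2000, 1269, 898, 1384, 1643, 1123, 1732], [1655, 2167, 809, 269, 1178, 317, 1123], [1125, 696, 375, 1451, 2132, 1296, 317], [326, 63, 48, 324, 722, 729, 1296], [1, 3, 9, 27, 81, 243, 729]]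
  v0 := 729
  ci := [757, 298, 55, 2, 649, 712, 328]
  p := [[1176, 73, 117, 139, 702, 55, 2], [38, 1296, 405, 199, 72, 12, 3], [49, 317, 1090, 57, 717, 3, 63], [175, 722, 442, 1265, 566, 137, 72], [380, 57, 232, 250, 1073, 27, 324], [325, 69, 39, 378, 641, 1215, 567], [1, 3, 9, 27, 81, 243, 729]]
  orbit := [729, 405, 1368, 1700, 183, 9, 3, 48, 658, 1904, 827, 433, 972]
  terms := [((1, 3, 6), [(0, 0, 2), (0, 3, 2), (1, 1, 1), (2, 0, 2), (2, 1, 1), (2, 3, 1), (3, 0, 2), (3, 3, 1), (4, 0, 1), (4, 5, 2), (5, 5, 1), (6, 5, 2)], [(0, 1), (1, 1), (3, 2), (4, 1)]), ((4, 3, 6), [(0, 0, 2), (0, 3, 2), (1, 0, 1), (1, 5, 2), (3, 1, 1), (3, 3, 2), (3, 5, 1), (4, 3, 1), (5, 0, 2), (5, 3, 1)], []), ((1, 2, 3), [(0, 0, 2), (0, 2, 2), (0, 3, 2), (0, 4, 1), (0, 5, 2), (2, 4, 1), (3, 4, 1), (4, 3, 2), (4, 4, 2), (4, 5, 2), (5, 3, 1), (5, 4, 1), (5, 5, 1), (6, 0, 2), (6, 1, 2), (6, 2, 2), (6,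 3, 2), (6, 5, 2)], []), ((1, 0, 6), [(0, 4, 2), (1, 1, 2), (1, 2, 1), (2, 2, 1), (2, 3, 2), (2, 4, 2), (3, 3, 2), (3, 4, 2), (4, 4, 1), (4, 5, 1), (4, 6, 1), (5, 5, 2), (5, 6, 2), (6, 6, 1)], [(1, 2), (2, 1), (3, 1), (4, 2), (5, 1), (6, 1)]), ((1, 6, 5), [(0, 4, 2), (0, 5, 1), (1, 2, 1), (1, 3, 1), (1, 4, 1), (2, 0, 1), (2, 2, 1), (2, 3, 1), (2, 5, 1), (2, 6, 2), (3, 4, 1), (3, 6, 2)], [(2, 1), (3, 1)])]

/-- An element of order 6 as a word. -/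
def word6 : List (ℕ × ℕ) := [(6, 1), (5, 2)]

end CfsgLib.G23
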