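/-
The seven-dimensional module of G2(3): kernel checks.
-/
import Cfsg.Agent.Lib.G23.Data

set_option autoImplicit false

namespace CfsgLib.G23

open Matrix Cfsg.Lie

/-- The prime field, as the ground field. -/
instance : Fact (Nat.Prime 3) := ⟨Nat.prime_three⟩

/-- The element of the prime field with value `n % 3`. -/
def el (n : ℕ) : ZMod 3 := (⟨n % 3, Nat.mod_lt _ (by decide)⟩ : Fin 3)

/-- Digit `j` in base 3. -/
def dg (n j : ℕ) : ℕ := n / 3 ^ j % 3

/-- A matrix from packed rows. -/
def dec (l : List ℕ) : Matrix (Fin 7) (Fin 7) (ZMod 3) :=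
  Matrix.of fun a b => el (dg (l.getD a.val 0) b.val)

/-- A vector from its code. -/
def vec (n : ℕ) : Fin 7 → ZMod 3 := fun b => el (dg n b.val)

/-- The coordinate with number `k`. -/
def coord (k : ℕ) : chevG2.Idx :=
  if h : k < 2 then Sum.inl ⟨k, h⟩ else
    if h' : k - 2 < 12 then Sum.inr ⟨k - 2, h'⟩ else Sum.inl ⟨0, by decide⟩

/-- The submodule coordinates. -/
def idx (a : Fin 7) : chevG2.Idx := coord (pos.getD a.val 0)

/-- Whether a coordinate lies outside the submodule. -/
def outside (c : chevG2.Idx) : Bool := (List.finRange 7).all fun a => !decide (idx a = c)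

/-- The adjoint action of a basis vector. -/
def bad (c : Fin 7) : Matrix (Fin 7) (Fin 7) (ZMod 3) := dec (badData.getD c.val [])

/-- A root element on the submodule. -/
def rootM (r : ℕ) (t : ZMod 3) : Matrix (Fin 7) (Fin 7) (ZMod 3) :=
  if t = 0 then 1 else dec ((rootData.getD r []).getD (if t = 1 then 0 else 1) [])

/-- The value of a word. -/
def wordM (w : List (ℕ × ℕ)) : Matrix (Fin 7) (Fin 7) (ZMod 3) :=
  w.foldr (fun e A => rootM e.1 (el e.2) * A) 1

set_option maxRecDepth 100000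
set_option maxHeartbeats 4000000
set_option Elab.async false

theorem idx_injective : ∀ a b : Fin 7, idx a = idx b → a = b := by
  decide +kernel

theorem block_zero : ∀ (r : Fin chevG2.nroots) (t : ZMod 3) (o : chevG2.Idx) (b : Fin 7),
    outside o = true → chevG2.xMat (ZMod 3) r t o (idx b) = 0 := by
  decide +kernel

theorem block_eq : ∀ (r : Fin chevG2.nroots) (t : ZMod 3),
    (chevG2.xMat (ZMod 3) r t).submatrix idx idx = rootM r.val t := by
  decide +kernel

theorem root_compat : ∀ (r : Fin chevG2.nroots) (t : ZMod 3) (c : Fin 7),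
    rootM r.val t * bad c = (∑ u, rootM r.val t u c • bad u) * rootM r.val t := by
  decide +kernel

theorem xMat_inverse : ∀ (r : Fin chevG2.nroots) (t : ZMod 3),
    chevG2.xMat (ZMod 3) r t * chevG2.xMat (ZMod 3) r (-t) = 1 := by
  decide +kernel

/-- The coefficient of the product of coordinates `b` and `c`. -/
def qcoef (C : Cert) (i a j b c : Fin 7) : ZMod 3 :=
  ∑ u : Fin 7, ∑ k : Fin 7, dec (C.p.getD i.val []) u b * bad u a k * dec (C.p.getD j.val []) k c

/-- The coefficient of the coordinate `c`. -/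
def lcoef (C : Cert) (i a j c : Fin 7) : ZMod 3 :=
  ∑ k : Fin 7, dec (C.p.getD k.val []) a c * bad i k j

/-- Sum of the quadratic terms at a pair. -/
def qat (q : List (ℕ × ℕ × ℕ)) (b c : ℕ) : ℕ :=
  (q.map fun e => if e.1 = b ∧ e.2.1 = c then e.2.2 else 0).sum

/-- Sum of the linear terms at a coordinate. -/
def lat (l : List (ℕ × ℕ)) (c : ℕ) : ℕ := (l.map fun e => if e.1 = c then e.2 else 0).sum

/-- The certificate is consistent. -/
def Consistent (C : Cert) : Prop :=
  (∀ t : Fin C.terms.length,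
    let e := C.terms.get t
    (∀ x ∈ e.2.1, x.1 < 7 ∧ x.2.1 < 7) ∧ (∀ x ∈ e.2.2, x.1 < 7) ∧
    (∀ b c : Fin 7, qcoef C (Fin.ofNat 7 e.1.1) (Fin.ofNat 7 e.1.2.1) (Fin.ofNat 7 e.1.2.2) b c =
      el (qat e.2.1 b.val c.val)) ∧
    ∀ c : Fin 7, lcoef C (Fin.ofNat 7 e.1.1) (Fin.ofNat 7 e.1.2.1) (Fin.ofNat 7 e.1.2.2) c =
      el (lat e.2.2 c.val)) ∧
  C.pw.getD 0 [] = [1, 3, 9, 27, 81, 243, 729] ∧
  (∀ k : Fin C.n, wordM C.word * dec (C.pw.getD k.val []) = dec (C.pw.getD (k.val + 1) [])) ∧
  dec (C.pw.getD C.n []) = 1 ∧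
  (∀ i : Fin 7, ∑ k : Fin 7, dec C.ci k i • dec (C.pw.getD k.val []) = dec (C.p.getD i.val [])) ∧
  (∀ i : Fin 7, ∑ k : Fin 7, dec C.ci k i • (dec (C.pw.getD k.val []) *ᵥ vec C.v0) = Pi.single i 1) ∧
  (∀ k : Fin C.n, dec (C.pw.getD k.val []) *ᵥ vec C.v0 = vec (C.orbit.getD k.val 0)) ∧
  wordM C.word ≠ 1 ∧ C.orbit.length = C.n

/-- Whether the equation holds at the vector with code `w`. -/
def equation (w : ℕ) (e : (ℕ × ℕ × ℕ) × List (ℕ × ℕ × ℕ) × List (ℕ × ℕ)) : Bool :=
  ((e.2.1.map fun x => x.2.2 * dg w x.1 * dg w x.2.1).sum % 3) ==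
    ((e.2.2.map fun x => x.2 * dg w x.1).sum % 3)

/-- Only the orbit and zero satisfy all equations. -/
def Exhausted (C : Cert) : Prop :=
  ((List.range 2187).all fun w => w == 0 || C.orbit.elem w || !(C.terms.all fun e => equation w e)) = true

theorem consistent7 : Consistent cert7 := by
  unfold Consistent
  decide +kernel

theorem consistent13 : Consistent cert13 := by
  unfold Consistent
  decide +kernel

theorem exhausted7 : Exhausted cert7 := by
  unfold Exhausted
  decide +kernel

theorem exhausted13 : Exhausted cert13 := by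
  unfold Exhausted
  decide +kernel

theorem check6 : wordM word6 * wordM word6 * wordM word6 * wordM word6 * wordM word6 * wordM word6 = 1 ∧
    wordM word6 * wordM word6 ≠ 1 ∧ wordM word6 * wordM word6 * wordM word6 ≠ 1 := by
  decide +kernel

end CfsgLib.G23
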