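/-
The seven-dimensional representation of G2(3) and the centralizers of its elements of order 7 and 13.
-/
import Cfsg.Agent.Lib.G23.Checks
import Cfsg.Agent.S1055

set_option autoImplicit false

namespace CfsgLib.G23

open Matrix Cfsg.Lie

theorem not_outside {o : chevG2.Idx} (h : ¬ outside o = true) : ∃ a, idx a = o := by
  simpa [outside] using h

theorem outside_of {o : chevG2.Idx} (h : ∀ a, idx a ≠ o) : outside o = true := by
  simpa [outside] using h

/-- The submodule is invariant and the action respects the bracket. -/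
def Good (g : Matrix chevG2.Idx chevG2.Idx (ZMod 3)) : Prop :=
  (∀ o b, outside o = true → g o (idx b) = 0) ∧
    ∀ c, g.submatrix idx idx * bad c =
      (∑ u, g.submatrix idx idx u c • bad u) * g.submatrix idx idx

theorem submatrix_mul' {g h : Matrix chevG2.Idx chevG2.Idx (ZMod 3)}
    (hh : ∀ o b, outside o = true → h o (idx b) = 0) :
    (g * h).submatrix idx idx = g.submatrix idx idx * h.submatrix idx idx := by
  ext a b
  simp only [submatrix_apply, Matrix.mul_apply]
  refine (Fintype.sum_of_injective idx (fun x y => idx_injective x y) _ _ ?_ fun k => rfl).symm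
  intro k hk
  rw [hh k b (outside_of fun a ha => hk ⟨a, ha⟩), mul_zero]

theorem submatrix_one' : (1 : Matrix chevG2.Idx chevG2.Idx (ZMod 3)).submatrix idx idx = 1 :=
  Matrix.submatrix_one idx fun x y => idx_injective x y

theorem good_one : Good 1 := by
  refine ⟨fun o b ho => ?_, fun c => ?_⟩
  · rw [Matrix.one_apply_ne]
    intro e
    simp [outside] at ho
    exact ho b e.symm
  · simp only [submatrix_one', one_mul, mul_one, Matrix.one_apply, ite_smul, one_smul, zero_smul]
    exact (Fintype.sum_ite_eq' c bad).symm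

theorem good_mul {g h : Matrix chevG2.Idx chevG2.Idx (ZMod 3)} (hg : Good g) (hh : Good h) :
    Good (g * h) := by
  refine ⟨fun o b ho => ?_, fun c => ?_⟩
  · rw [Matrix.mul_apply]
    refine Finset.sum_eq_zero fun k _ => ?_
    by_cases hk : outside k = true
    · rw [hh.1 k b hk, mul_zero]
    · obtain ⟨a, rfl⟩ := not_outside hk
      rw [hg.1 o a ho, zero_mul]
  · rw [submatrix_mul' hh.1, mul_assoc, hh.2 c, ← mul_assoc, Finset.mul_sum]
    simp_rw [mul_smul_comm, hg.2]
    rw [← mul_assoc]
    congr 1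
    simp_rw [← smul_mul_assoc, ← Finset.sum_mul]
    congr 1
    simp_rw [Finset.smul_sum, smul_smul, Matrix.mul_apply, Finset.sum_smul]
    rw [Finset.sum_comm]
    simp_rw [mul_comm]

theorem good_gen (r : Fin chevG2.nroots) (t : ZMod 3) : Good (chevG2.xMat (ZMod 3) r t) := by
  refine ⟨fun o b ho => block_zero r t o b ho, fun c => ?_⟩
  rw [block_eq r t]
  exact root_compat r t c

theorem finite_group : Finite ↥(chevG2.group (ZMod 3)) := inferInstance

theorem good_of_mem {g : GL chevG2.Idx (ZMod 3)} (hg : g ∈ chevG2.group (ZMod 3)) :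
    Good (g : Matrix chevG2.Idx chevG2.Idx (ZMod 3)) := by
  induction hg using Subgroup.closure_induction with
  | mem x hx =>
    obtain ⟨r, t, hrt⟩ := hx
    rw [hrt]
    exact good_gen r t
  | one => exact good_one
  | mul x y _ _ hx hy => rw [Units.val_mul]; exact good_mul hx hy
  | inv x _ hx =>
    have h : x⁻¹ = x ^ (orderOf x - 1) := by
      rw [inv_eq_iff_mul_eq_one, ← pow_succ', Nat.sub_add_cancel (orderOf_pos x), pow_orderOf_eq_one]
    rw [h]
    generalize orderOf x - 1 = n
    induction n with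
    | zero => rw [pow_zero, Units.val_one]; exact good_one
    | succ n ih => rw [pow_succ, Units.val_mul]; exact good_mul ih hx

/-- The representation on the submodule. -/
def rep : ↥(chevG2.group (ZMod 3)) →* Matrix (Fin 7) (Fin 7) (ZMod 3) where
  toFun g := (g.1 : Matrix chevG2.Idx chevG2.Idx (ZMod 3)).submatrix idx idx
  map_one' := submatrix_one'
  map_mul' x y := submatrix_mul' (good_of_mem y.2).1

theorem word_mem (w : List (ℕ × ℕ)) (hw : ∀ e ∈ w, e.1 < chevG2.nroots) :
    ∃ x, rep x = wordM w := by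
  induction w with
  | nil => exact ⟨1, map_one _⟩
  | cons e w ih =>
    obtain ⟨x, hx⟩ := ih fun d hd => hw d (List.mem_cons_of_mem _ hd)
    set r : Fin chevG2.nroots := ⟨e.1, hw e List.mem_cons_self⟩ with hr
    let u : GL chevG2.Idx (ZMod 3) :=
      ⟨chevG2.xMat (ZMod 3) r (el e.2), chevG2.xMat (ZMod 3) r (-el e.2), xMat_inverse r _,
        by have := xMat_inverse r (-el e.2); rwa [neg_neg] at this⟩
    refine ⟨⟨u, Subgroup.subset_closure ⟨r, el e.2, rfl⟩⟩ * x, ?_⟩
    rw [map_mul, hx]
    show (chevG2.xMat (ZMod 3) r (el e.2)).submatrix idx idx * _ = _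
    rw [block_eq]
    rfl

theorem rep_injective : Function.Injective rep := by
  haveI := (Cfsg.Agent.S1055.result (F := ZMod 3) ⟨2, by decide, by decide⟩).1
  let h : ↥(chevG2.group (ZMod 3)) →* (Matrix (Fin 7) (Fin 7) (ZMod 3))ˣ := rep.toHomUnits
  have hinj : Function.Injective h := by
    rw [← MonoidHom.ker_eq_bot_iff]
    rcases h.normal_ker.eq_bot_or_eq_top with hb | ht <;>
      [exact hb; skip]
    exfalso
    obtain ⟨x, hx⟩ := word_mem word6 (by decide)
    have : h x = 1 := MonoidHom.mem_ker.1 (ht ▸ Subgroup.mem_top x)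
    have h1 : wordM word6 = 1 := hx ▸ congrArg Units.val this
    exact check6.2.1 (by rw [h1, one_mul])
  intro x y hxy
  exact hinj (Units.ext hxy)

theorem el_eq_cast (n : ℕ) : el n = (n : ZMod 3) := by
  apply ZMod.val_injective
  rw [ZMod.val_natCast]
  rfl

theorem bilin_terms (q : List (ℕ × ℕ × ℕ)) (hq : ∀ x ∈ q, x.1 < 7 ∧ x.2.1 < 7) (w : ℕ) :
    ∑ b : Fin 7, ∑ c : Fin 7, el (qat q b.val c.val) * vec w b * vec w c =
      ((q.map fun x => x.2.2 * dg w x.1 * dg w x.2.1).sum : ℕ) := by
  induction q with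
  | nil => simp [qat, el_eq_cast]
  | cons x q ih =>
    obtain ⟨h1, h2⟩ := hq x List.mem_cons_self
    rw [List.map_cons, List.sum_cons, Nat.cast_add, ← ih fun y hy => hq y (List.mem_cons_of_mem _ hy)]
    simp only [qat, List.map_cons, List.sum_cons, el_eq_cast, Nat.cast_add, add_mul, Finset.sum_add_distrib]
    congr 1
    rw [Finset.sum_eq_single ⟨x.1, h1⟩, Finset.sum_eq_single ⟨x.2.1, h2⟩]
    · simp [vec, el_eq_cast]
    · intro c _ hc
      rw [if_neg (fun e => hc (Fin.ext e.2.symm))]; simp
    · simp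
    · intro b _ hb
      refine Finset.sum_eq_zero fun c _ => ?_
      rw [if_neg (fun e => hb (Fin.ext e.1.symm))]; simp
    · simp

theorem lin_terms (l : List (ℕ × ℕ)) (hl : ∀ x ∈ l, x.1 < 7) (w : ℕ) :
    ∑ c : Fin 7, el (lat l c.val) * vec w c = ((l.map fun x => x.2 * dg w x.1).sum : ℕ) := by
  induction l with
  | nil => simp [lat, el_eq_cast]
  | cons x l ih =>
    have h1 := hl x List.mem_cons_self
    rw [List.map_cons, List.sum_cons, Nat.cast_add, ← ih fun y hy => hl y (List.mem_cons_of_mem _ hy)]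
    simp only [lat, List.map_cons, List.sum_cons, el_eq_cast, Nat.cast_add, add_mul, Finset.sum_add_distrib]
    congr 1
    rw [Finset.sum_eq_single ⟨x.1, h1⟩]
    · simp [vec, el_eq_cast]
    · intro c _ hc
      rw [if_neg (fun e => hc (Fin.ext e.symm))]; simp
    · simp

theorem dg_zero {a : ℕ} (b : ℕ) (ha : a < 3) : dg (a + 3 * b) 0 = a := by
  simp [dg]
  omega

theorem dg_succ {a : ℕ} (b j : ℕ) (ha : a < 3) : dg (a + 3 * b) (j + 1) = dg b j := by
  rw [dg, dg, pow_succ', ← Nat.div_div_eq_div_mul, Nat.add_mul_div_left _ _ (by norm_num),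
    Nat.div_eq_of_lt ha, zero_add]

theorem exists_code (v : Fin 7 → ZMod 3) : ∃ w < 2187, vec w = v := by
  have h := fun b => ZMod.val_lt (v b)
  refine ⟨(v 0).val + 3 * ((v 1).val + 3 * ((v 2).val + 3 * ((v 3).val + 3 * ((v 4).val +
    3 * ((v 5).val + 3 * ((v 6).val + 3 * 0)))))), ?_, ?_⟩
  · have := h 0; have := h 1; have := h 2; have := h 3; have := h 4; have := h 5; have := h 6
    omega
  · funext b
    apply ZMod.val_injective
    show (el (dg _ b.val)).val = _
    rw [el_eq_cast, ZMod.val_natCast]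
    fin_cases b <;> simp only [dg_zero _ (h _), dg_succ _ _ (h _), Fin.zero_eta, Fin.mk_one, Fin.reduceFinMk] <;>
      exact Nat.mod_eq_of_lt (h _)

/-- The centralizer of the certified element consists of its powers. -/
theorem centralizer_pow (C : Cert) (h7 : 7 ≤ C.n) (hC : Consistent C) (hE : Exhausted C)
    (x : ↥(chevG2.group (ZMod 3))) (hx : rep x * wordM C.word = wordM C.word * rep x) :
    rep x ^ C.n = 1 := by
  obtain ⟨hterm, h0, hsucc, hn, hp, hcyc, horb, -, hlen⟩ := hC
  set g := wordM C.word with hg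
  have hpw : ∀ k ≤ C.n, dec (C.pw.getD k []) = g ^ k := by
    intro k
    induction k with
    | zero => intro _; rw [h0, pow_zero]; decide +kernel
    | succ k ih =>
      intro hk
      rw [pow_succ', ← ih (by omega)]
      exact (hsucc ⟨k, by omega⟩).symm
  set X := rep x with hX
  have hX1 : ∃ Y, Y * X = 1 := ⟨rep x⁻¹, by rw [← map_mul, inv_mul_cancel, map_one]⟩
  set v0 := vec C.v0
  obtain ⟨w, hw, hwv⟩ := exists_code (X *ᵥ v0)
  have hcomm : ∀ k : ℕ, X * g ^ k = g ^ k * X := fun k => (Commute.pow_right hx k).eq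
  have hsm : ∀ k : Fin 7, X * dec (C.pw.getD k.val []) = dec (C.pw.getD k.val []) * X := by
    intro k
    rw [hpw k.val (by omega)]
    exact hcomm _
  have hcol : ∀ i, X *ᵥ Pi.single i 1 = dec (C.p.getD i.val []) *ᵥ (X *ᵥ v0) := by
    intro i
    rw [← hcyc i, Matrix.mulVec_sum, ← hp i, Matrix.sum_mulVec]
    refine Finset.sum_congr rfl fun k _ => ?_
    rw [Matrix.mulVec_smul, Matrix.smul_mulVec, Matrix.mulVec_mulVec, Matrix.mulVec_mulVec, hsm k]
  have hent : ∀ a i, X a i = ∑ b, dec (C.p.getD i.val []) a b * vec w b := by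
    intro a i
    have h := congrFun (hcol i) a
    rw [Matrix.mulVec_single_one, ← hwv] at h
    exact h
  have heq : C.terms.all (fun e => equation w e) = true := by
    rw [List.all_eq_true]
    intro e he
    obtain ⟨t, ht⟩ := List.mem_iff_get.1 he
    have hte := hterm t
    rw [ht] at hte
    obtain ⟨hq7, hl7, hq, hl⟩ := hte
    set i := Fin.ofNat 7 e.1.1
    set a := Fin.ofNat 7 e.1.2.1
    set j := Fin.ofNat 7 e.1.2.2
    have h := congrFun (congrFun ((good_of_mem x.2).2 i) a) j
    change (X * bad i) a j = ((∑ u, X u i • bad u) * X) a j at h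
    simp only [Matrix.mul_apply, Matrix.sum_apply, Matrix.smul_apply, smul_eq_mul] at h
    have hleft : ∑ k, X a k * bad i k j = ∑ c, lcoef C i a j c * vec w c := by
      simp only [hent, lcoef, Finset.sum_mul]
      rw [Finset.sum_comm]
      exact Finset.sum_congr rfl fun c _ => Finset.sum_congr rfl fun k _ => by ring
    have hright : ∑ k, (∑ u, X u i * bad u a k) * X k j =
        ∑ b, ∑ c, qcoef C i a j b c * vec w b * vec w c := by
      let T : Fin 7 → Fin 7 → Fin 7 → Fin 7 → ZMod 3 := fun u k b c =>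
        dec (C.p.getD i.val []) u b * bad u a k * dec (C.p.getD j.val []) k c * vec w b * vec w c
      calc ∑ k, (∑ u, X u i * bad u a k) * X k j = ∑ k, ∑ u, ∑ b, ∑ c, T u k b c := by
            refine Finset.sum_congr rfl fun k _ => ?_
            rw [Finset.sum_mul]
            refine Finset.sum_congr rfl fun u _ => ?_
            rw [hent u i, Finset.sum_mul, Finset.sum_mul]
            refine Finset.sum_congr rfl fun b _ => ?_
            rw [hent k j, Finset.mul_sum]
            exact Finset.sum_congr rfl fun c _ => by ring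
        _ = ∑ u, ∑ b, ∑ c, ∑ k, T u k b c := by
            rw [Finset.sum_comm]
            refine Finset.sum_congr rfl fun u _ => ?_
            rw [Finset.sum_comm]
            exact Finset.sum_congr rfl fun b _ => Finset.sum_comm
        _ = ∑ b, ∑ c, ∑ u, ∑ k, T u k b c := by
            rw [Finset.sum_comm]
            exact Finset.sum_congr rfl fun b _ => Finset.sum_comm
        _ = _ := by
            refine Finset.sum_congr rfl fun b _ => Finset.sum_congr rfl fun c _ => ?_
            simp only [qcoef, Finset.sum_mul, T]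
    rw [hleft, hright] at h
    simp only [hq, hl] at h
    rw [bilin_terms _ hq7, lin_terms _ hl7] at h
    simp only [equation, beq_iff_eq]
    exact ((ZMod.natCast_eq_natCast_iff' _ _ _).1 h).symm
  have hall := List.all_eq_true.1 hE w (List.mem_range.2 hw)
  simp only [heq, Bool.not_true, Bool.or_false, Bool.or_eq_true, beq_iff_eq, List.elem_iff] at hall
  have hw0 : w ≠ 0 := by
    intro e
    obtain ⟨Y, hY⟩ := hX1
    have hz : X *ᵥ v0 = 0 := by rw [← hwv, e]; decide +kernel
    have hz' : v0 = 0 := by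
      rw [show v0 = (Y * X) *ᵥ v0 by rw [hY, Matrix.one_mulVec], ← Matrix.mulVec_mulVec, hz,
        Matrix.mulVec_zero]
    have h := congrFun (hcyc 0) 0
    rw [hz'] at h
    simp [Matrix.mulVec_zero] at h
  rcases hall with h | h
  · exact absurd h hw0
  obtain ⟨k, hk, hkw⟩ := List.mem_iff_getElem.1 h
  have hk' : k < C.n := by omega
  have hXg : X = g ^ k := by
    apply Matrix.ext_of_mulVec_single
    intro i
    rw [hcol i, ← hwv, show vec w = dec (C.pw.getD k []) *ᵥ v0 by
      rw [horb ⟨k, hk'⟩, List.getD_eq_getElem?_getD, List.getElem?_eq_getElem hk, hkw]; rfl,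
      hpw k hk'.le, ← hcyc i, Matrix.mulVec_sum, ← hp i, Matrix.sum_mulVec]
    refine Finset.sum_congr rfl fun l _ => ?_
    rw [Matrix.mulVec_smul, Matrix.smul_mulVec, Matrix.mulVec_mulVec, Matrix.mulVec_mulVec]
    rw [hpw l.val (by omega), ((Commute.refl g).pow_pow k l.val).eq]
  rw [hXg, ← pow_mul, mul_comm, pow_mul, ← hpw C.n le_rfl, hn, one_pow]

end CfsgLib.G23
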