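/-
The prime graph of G2(3).
-/
import Cfsg.Agent.Lib.G23.Rep
import Cfsg.Agent.Lib.FpfExt.Basic
import Cfsg.Agent.Lib.PSL2Spectrum
import Cfsg.Agent.S1059

set_option autoImplicit false

namespace CfsgLib.G23

open Matrix Cfsg.Lie

theorem card_group : Nat.card ↥(chevG2.group (ZMod 3)) = 2 ^ 6 * 3 ^ 6 * 7 * 13 := by
  rw [Cfsg.Agent.S1059.result (ZMod.card 3)]
  norm_num

theorem orderOf_rep (x : ↥(chevG2.group (ZMod 3))) : orderOf (rep x) = orderOf x :=
  orderOf_injective rep rep_injective x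

theorem exists_six : ∃ x : ↥(chevG2.group (ZMod 3)), orderOf x = 6 := by
  obtain ⟨x, hx⟩ := word_mem word6 (by decide)
  obtain ⟨h6, h2, h3⟩ := check6
  refine ⟨x, ?_⟩
  rw [← orderOf_rep, hx]
  refine orderOf_eq_of_pow_and_pow_div_prime (by norm_num) (by simp only [pow_succ, pow_zero, one_mul]; exact h6)
    fun q hq hd => ?_
  rcases (Nat.Prime.dvd_mul hq).1 (show q ∣ 2 * 3 from hd) with h | h
  · rw [(Nat.prime_dvd_prime_iff_eq hq Nat.prime_two).1 h]
    simp only [show 6 / 2 = 3 from rfl, pow_succ, pow_zero, one_mul]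
    exact h3
  · rw [(Nat.prime_dvd_prime_iff_eq hq Nat.prime_three).1 h]
    simp only [show 6 / 3 = 2 from rfl, pow_succ, pow_zero, one_mul]
    exact h2

theorem isolated (C : Cert) {q : ℕ} (hq : q.Prime) (hn : C.n = q) (h7 : 7 ≤ q)
    (hw : ∀ e ∈ C.word, e.1 < chevG2.nroots) (hC : Consistent C) (hE : Exhausted C)
    (hdvd : ¬ q ^ 2 ∣ Nat.card ↥(chevG2.group (ZMod 3))) {s : ℕ} (hs : s.Prime) (hne : s ≠ q) :
    ¬ ∃ x : ↥(chevG2.group (ZMod 3)), orderOf x = q * s := by
  rintro ⟨h, hh⟩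
  haveI : Fact q.Prime := ⟨hq⟩
  haveI := finite_group
  obtain ⟨a, ha⟩ := word_mem C.word hw
  have ha1 : orderOf a = q := by
    rw [← orderOf_rep, ha]
    obtain ⟨-, h0, hsucc, hlast, -, -, -, hne1, -⟩ := hC
    have hpw : ∀ k ≤ C.n, dec (C.pw.getD k []) = wordM C.word ^ k := by
      intro k
      induction k with
      | zero => intro _; rw [h0, pow_zero]; decide +kernel
      | succ k ih =>
        intro hk
        rw [pow_succ', ← ih (by omega)]
        exact (hsucc ⟨k, by omega⟩).symm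
    exact orderOf_eq_prime (by rw [← hn, ← hpw C.n le_rfl, hlast]) hne1
  have hb : orderOf (h ^ s) = q := by
    rw [orderOf_pow_of_dvd hs.ne_zero (hh ▸ dvd_mul_left s q), hh, Nat.mul_div_cancel _ hs.pos]
  have hc : orderOf (h ^ q) = s := by
    rw [orderOf_pow_of_dvd hq.ne_zero (hh ▸ dvd_mul_right q s), hh, Nat.mul_div_cancel_left _ hq.pos]
  obtain ⟨c, n, hcn⟩ := CfsgLib.FpfExt.exists_conj_pow hb ha1 hdvd
  let y := c * h ^ q * c⁻¹
  have hy : orderOf y = s := by
    rw [← hc]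
    exact orderOf_injective (MulAut.conj c).toMonoidHom (MulAut.conj c).injective (h ^ q)
  have hya : Commute y a := by
    have h0 : Commute (h ^ q) ((h ^ s) ^ n) := ((Commute.refl h).pow_pow q s).pow_right n
    rw [hcn]
    exact h0.map (MulAut.conj c).toMonoidHom
  have hp := centralizer_pow C (hn ▸ h7) hC hE y (by rw [← ha, ← map_mul, hya.eq, map_mul])
  rw [hn, ← map_pow, ← map_one rep] at hp
  have hd : s ∣ q := hy ▸ orderOf_dvd_of_pow_eq_one (rep_injective hp)
  exact hne ((Nat.prime_dvd_prime_iff_eq hs hq).1 hd)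

theorem prime_mem {r : ℕ} (hr : r.Prime) :
    r ∣ Nat.card ↥(chevG2.group (ZMod 3)) ↔ r = 2 ∨ r = 3 ∨ r = 7 ∨ r = 13 := by
  rw [card_group]
  constructor
  · intro h
    have hp : ∀ t : ℕ, t.Prime → r ∣ t → r = t := fun t ht h => (Nat.prime_dvd_prime_iff_eq hr ht).1 h
    rcases hr.dvd_mul.1 h with h | h
    · rcases hr.dvd_mul.1 h with h | h
      · rcases hr.dvd_mul.1 h with h | h
        · exact Or.inl (hp 2 Nat.prime_two (hr.dvd_of_dvd_pow h))
        · exact Or.inr (Or.inl (hp 3 Nat.prime_three (hr.dvd_of_dvd_pow h)))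
      · exact Or.inr (Or.inr (Or.inl (hp 7 (by norm_num) h)))
    · exact Or.inr (Or.inr (Or.inr (hp 13 (by norm_num) h)))
  · rintro (rfl | rfl | rfl | rfl) <;> norm_num

theorem edge {r s : ℕ} (hr : r.Prime) (hs : s.Prime) (hrs : r ≠ s) :
    (∃ x : ↥(chevG2.group (ZMod 3)), orderOf x = r * s) ↔ r * s = 6 := by
  constructor
  · rintro ⟨x, hx⟩
    have hd : r * s ∣ Nat.card ↥(chevG2.group (ZMod 3)) := hx ▸ orderOf_dvd_natCard x
    have h1 := (prime_mem hr).1 ((dvd_mul_right r s).trans hd)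
    have h2 := (prime_mem hs).1 ((dvd_mul_left s r).trans hd)
    have i7 : ∀ t : ℕ, t.Prime → t ≠ 7 → ¬ ∃ x : ↥(chevG2.group (ZMod 3)), orderOf x = 7 * t := fun t ht hne =>
      isolated cert7 (q := 7) (by norm_num) rfl le_rfl (by decide) consistent7 exhausted7
        (by rw [card_group]; norm_num) ht hne
    have i13 : ∀ t : ℕ, t.Prime → t ≠ 13 → ¬ ∃ x : ↥(chevG2.group (ZMod 3)), orderOf x = 13 * t := fun t ht hne =>
      isolated cert13 (q := 13) (by norm_num) rfl (by norm_num) (by decide) consistent13 exhausted13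
        (by rw [card_group]; norm_num) ht hne
    by_cases r7 : r = 7
    · subst r7; exact absurd ⟨x, hx⟩ (i7 s hs hrs.symm)
    by_cases r13 : r = 13
    · subst r13; exact absurd ⟨x, hx⟩ (i13 s hs hrs.symm)
    by_cases s7 : s = 7
    · subst s7; exact absurd ⟨x, mul_comm r 7 ▸ hx⟩ (i7 r hr r7)
    by_cases s13 : s = 13
    · subst s13; exact absurd ⟨x, mul_comm r 13 ▸ hx⟩ (i13 r hr r13)
    rcases h1 with rfl | rfl | rfl | rfl <;> rcases h2 with rfl | rfl | rfl | rfl <;> omega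
  · intro h
    rw [h]
    exact exists_six

theorem psl_edge {E : Type*} [Field E] [Fintype E] (hE : Fintype.card E = 13) {r s : ℕ} (hr : r.Prime)
    (hs : s.Prime) (hrs : r ≠ s) :
    (∃ y : ProjectiveSpecialLinearGroup (Fin 2) E, orderOf y = r * s) ↔ r * s = 6 := by
  haveI : Fact (Nat.Prime 13) := ⟨by norm_num⟩
  haveI : CharP E 13 := charP_of_card_eq_prime hE
  rw [CfsgLib.PSL2Spectrum.psl_orders 13, hE]
  norm_num
  constructor
  · rintro (h | h | h)
    · have h2 := Nat.le_of_dvd (by norm_num) h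
      have := hr.two_le; have := hs.two_le
      have hr6 : r ≤ 6 := by nlinarith
      have hs6 : s ≤ 6 := by nlinarith
      interval_cases r <;> interval_cases s <;> first | omega | norm_num at *
    · exfalso
      rcases (Nat.dvd_prime (by norm_num : Nat.Prime 7)).1 h with e | e
      · nlinarith [hr.two_le, hs.two_le]
      · exact Nat.not_prime_mul hr.one_lt.ne' hs.one_lt.ne' (e ▸ (by norm_num : Nat.Prime 7))
    · exact absurd (h ▸ (by norm_num : Nat.Prime 13)) (Nat.not_prime_mul hr.one_lt.ne' hs.one_lt.ne')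
  · intro h; exact Or.inl (h ▸ dvd_rfl)

theorem xMat_map {F : Type*} [Field F] (e : F →+* ZMod 3) (r : Fin chevG2.nroots) (t : F) :
    (chevG2.xMat F r t).map e = chevG2.xMat (ZMod 3) r (e t) := by
  ext a b
  rcases b with i | s <;> rcases a with i' | u <;>
    simp only [Matrix.map_apply, ChevalleyDatum.xMat, Matrix.of_apply]
  · split_ifs <;> simp
  · split_ifs <;> simp
  · split_ifs <;> simp
  · split_ifs <;> simp [map_list_sum, List.map_map, Function.comp_def]

theorem group_equiv {F : Type*} [Field F] (e : F ≃+* ZMod 3) :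
    Nonempty (↥(chevG2.group F) ≃* ↥(chevG2.group (ZMod 3))) := by
  let φ : GL chevG2.Idx F ≃* GL chevG2.Idx (ZMod 3) := Units.mapEquiv e.mapMatrix.toMulEquiv
  have hval : ∀ g, (φ g : Matrix chevG2.Idx chevG2.Idx (ZMod 3)) = (g : Matrix _ _ F).map e := fun g => rfl
  refine ⟨(φ.subgroupMap _).trans (MulEquiv.subgroupCongr ?_)⟩
  unfold ChevalleyDatum.group
  rw [MonoidHom.map_closure]
  congr 1
  ext g
  constructor
  · rintro ⟨h, ⟨r, t, hh⟩, rfl⟩
    refine ⟨r, e t, ?_⟩
    show (φ h : Matrix chevG2.Idx chevG2.Idx (ZMod 3)) = _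
    rw [hval, hh]
    exact xMat_map e.toRingHom r t
  · rintro ⟨r, t, hg⟩
    refine ⟨φ.symm g, ⟨r, e.symm t, ?_⟩, φ.apply_symm_apply g⟩
    have hinj : Function.Injective fun M : Matrix chevG2.Idx chevG2.Idx F => M.map e :=
      Matrix.map_injective e.injective
    refine hinj ?_
    show (φ.symm g : Matrix chevG2.Idx chevG2.Idx F).map e = (chevG2.xMat F r (e.symm t)).map e
    rw [← hval, φ.apply_symm_apply, hg]
    conv_lhs => rw [← e.apply_symm_apply t]
    exact (xMat_map e.toRingHom r (e.symm t)).symm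

end CfsgLib.G23
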